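import Cfsg.Agent.H797.Cov.Few

/-!
# The recursion on the permutation action on the components, without losses (helper797, for S3451)
-/

set_option autoImplicit false

universe u v

namespace Cfsg.Agent.H797.Cov

open Subgroup Cfsg Cfsg.Agent.H369.Socle Cfsg.Agent.H370.DP
open Cfsg.Agent.H831.DPSolvMain (solv_quot)
open Cfsg.Agent.H60.SolvLift (DD.of_surjective)

/-- the 2-exponent of the permutation group on the components -/
theorem no_two_pow {Y : Type u} [Group Y] [Finite Y] (hNS : NoSol Y) {lam : ℕ}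
    (h2 : ¬ ∃ g : Y, orderOf g = 2 ^ (lam + 1 + 1)) {K : Subgroup Y} [K.Normal]
    (hK : kerPerm {C : Subgroup Y | IsComponent C} = K) : ¬ ∃ g : Y ⧸ K, orderOf g = 2 ^ (lam + 1) := by
  rintro ⟨y, hy⟩
  obtain ⟨g, rfl⟩ := QuotientGroup.mk'_surjective K y
  have hnt : Nontrivial Y := by
    by_contra hn
    rw [not_nontrivial_iff_subsingleton] at hn
    have : g = 1 := Subsingleton.elim _ _
    rw [this, map_one, orderOf_one] at hy
    have h3 : 2 ^ 1 ≤ 2 ^ (lam + 1) := Nat.pow_le_pow_right (by norm_num) (by omega)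
    omega
  apply h2
  refine Cfsg.Agent.H831.DPBoost.boost hNS (g := g) (t := lam + 1) ?_ ?_
  · rw [hK, ← QuotientGroup.ker_mk' K, MonoidHom.mem_ker, map_pow, ← hy, pow_orderOf_eq_one]
  · intro i hi hi' hmem
    rw [hK, ← QuotientGroup.ker_mk' K, MonoidHom.mem_ker, map_pow] at hmem
    have h3 := Nat.le_of_dvd hi (orderOf_dvd_of_pow_eq_one hmem)
    omega

/-- **The recursion.** -/
theorem deep3 {F : Type v} [Field F] [Fintype F] (hF : Fintype.card F = 2) {l : ℕ} (hl : l = 6 ∨ l = 7 ∨ l = 8)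
    (hcov : Cfsg.Agent.H826.DP.Cov3.{u, v} F l) (hSch : Schr.{u}) : ∀ (lam : ℕ), lam + 1 ≤ l →
    ∀ (X : Type u) [Group X] [Finite X] (κ : ℕ) (E : Finset ℕ), 1 ≤ κ → κ ≤ 3 → Big (2 ^ l) E →
      2 ^ (l - 1) ≤ E.card + 9 → Pr 3 κ X E → (¬ ∃ g : X, orderOf g = 2 ^ (lam + 1)) → Bnd (2 ^ l) X →
      (∀ r ∈ E, ¬ DD X r) → False := by
  classical
  have h32 : 32 ≤ 2 ^ (l - 1) := by rcases hl with rfl | rfl | rfl <;> norm_num
  intro lam
  induction lam with
  | zero =>
    intro _ X _ _ κ E hκ1 hκ hE hEc hP h2 hB hD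
    obtain ⟨T, hT, hTk⟩ := Finset.exists_subset_card_eq (show 3 ≤ E.card by omega)
    obtain ⟨A, hA, hAc, hAI⟩ := hP.2 T hT hTk
    obtain ⟨r, hr⟩ : A.Nonempty := Finset.card_pos.1 (by omega)
    have hrX := hAI.prime_dvd_card hr
    apply hD r (hT (hA hr))
    have hodd : Odd (Nat.card X) := by
      by_contra hne
      have : Fact (Nat.Prime 2) := ⟨Nat.prime_two⟩
      obtain ⟨g, hg⟩ := exists_prime_orderOf_dvd_card' 2 (Nat.not_odd_iff_even.1 hne).two_dvd
      exact h2 ⟨g, by rw [hg]; norm_num⟩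
    have hs : Group.IsSolvable X := Cfsg.Agent.S0205.result hodd
    have hs' : Group.IsSolvable (⊤ : Subgroup X) := inferInstance
    refine DD.of_normal hs' ?_
    rwa [Subgroup.card_top]
  | succ lam ih =>
    intro hlam X _ _ κ E hκ1 hκ hE hEc hP h2 hB hD
    obtain ⟨R, hRn, hRs, hNS⟩ := exists_rad X
    have hπ := QuotientGroup.mk'_surjective R
    have hP' : Pr 3 κ (X ⧸ R) E := by
      refine hP.map (QuotientGroup.mk' R) hπ hE.prime fun r hr h => ?_
      rw [QuotientGroup.ker_mk'] at h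
      exact hD r hr (DD.of_normal hRs h)
    have h2' : ¬ ∃ g : X ⧸ R, orderOf g = 2 ^ (lam + 1 + 1) := fun h => h2 (exists_quot _ hπ h)
    have hB' : Bnd (2 ^ l) (X ⧸ R) := hB.of_dvd (Subgroup.card_quotient_dvd_card R)
    have hD' : ∀ r ∈ E, ¬ DD (X ⧸ R) r := fun r hr h => hD r hr (DD.of_surjective (QuotientGroup.mk' R) hπ h)
    set Y := X ⧸ R with hY
    have hF' := fam_components hNS
    have h2l : ¬ ∃ g : Y, orderOf g = 2 ^ l := by
      rintro ⟨g, hg⟩
      exact h2' (exists_of_dvd ⟨g, hg ▸ pow_dvd_pow 2 hlam⟩)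
    by_cases hne : ∃ S : Subgroup Y, IsComponent S ∧ ∃ r ∈ E, r ∣ Nat.card S
    · -- a component with a prime
      obtain ⟨S, hS, r, hr, hrS⟩ := hne
      obtain ⟨⟨m, -, ⟨e⟩⟩, -⟩ := comp_PL hl hcov hSch hNS hκ hE hEc hP' (fun h => by
          obtain ⟨g, hg⟩ := h
          exact h2l (exists_of_dvd ⟨g, hg ▸ pow_dvd_pow 2 (by omega)⟩)) hB' hD' hS hr hrS
      exact h2l (exists_sub (exists_two_pow_of_PL hF (by omega) e hE hr hrS))
    · -- pass to the permutation group
      push Not at hne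
      have hinv : ∀ C ∈ {C : Subgroup Y | IsComponent C}, ∀ h : Y, cj h C ∈ {C : Subgroup Y | IsComponent C} :=
        fun C hC h => hF'.conj C hC h
      have hK := kerPerm_normal' hinv
      have h2'' := no_two_pow hNS h2' rfl
      have hπ' := QuotientGroup.mk'_surjective (kerPerm {C : Subgroup Y | IsComponent C})
      have hP'' : Pr 3 κ (Y ⧸ kerPerm {C : Subgroup Y | IsComponent C}) E := by
        refine hP'.map (QuotientGroup.mk' _) hπ' hE.prime fun r hr h => ?_
        rw [QuotientGroup.ker_mk'] at h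
        exact not_dvd_kerPerm hNS (hE.prime r hr) (hD' r hr) (fun C hC => hne C hC r hr) h
      exact ih (by omega) (Y ⧸ kerPerm {C : Subgroup Y | IsComponent C}) κ E hκ1 hκ hE hEc hP'' h2''
        (hB'.of_dvd (Subgroup.card_quotient_dvd_card _))
        (fun r hr h => hD' r hr (DD.of_surjective (QuotientGroup.mk' _) hπ' h))

end Cfsg.Agent.H797.Cov
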