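import Cfsg.Agent.H797.Cov.Insert
import Cfsg.Agent.H797.Cov.Prod
import Cfsg.Agent.H370.DP.Top
import Cfsg.Agent.H421.DPTwo
import Cfsg.Agent.H826.DP.Def3

/-!
# Components having a prime of large index (helper797, for S3451)

* `few_bad` : all but 11 members of `E` divide the order of a component having a prime of `E`;
* `ncard_le` : at most `κ` components have a prime of `E`;
* `comp_PL` : with the coverage `Cov3` such a component is a group `PSL_m(2)`, and all but two members of `E` divide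
  its order.
-/

set_option autoImplicit false

universe u v

namespace Cfsg.Agent.H797.Cov

open Subgroup Cfsg Cfsg.Agent.H369.Socle Cfsg.Agent.H370.DP
open Cfsg.Agent.H831.DPSolvMain (solv_quot)
open Cfsg.Agent.H60.SolvLift (DD.of_surjective exists_solvable_lift card_mul)
open Cfsg.Agent.H188.Fac.PLTwo (pair_le dvd_card)

/-- the Schreier conjecture -/
def Schr : Prop := ∀ (S : Type u) [Group S] [Finite S] [IsSimpleGroup S], Group.IsSolvable (Out S)

theorem card_range_dvd {X : Type*} [Group X] [Finite X] (S : Subgroup X) : Nat.card (S.normalizerMonoidHom).range ∣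
    Nat.card ((QuotientGroup.mk' (Inn S)).comp S.normalizerMonoidHom).range * Nat.card S := by
  rw [card_mul (QuotientGroup.mk' (Inn S)) (S.normalizerMonoidHom).range, MonoidHom.map_range, QuotientGroup.ker_mk']
  refine Nat.mul_dvd_mul_left _ ((card_dvd_of_le inf_le_right).trans ?_)
  exact Subgroup.card_range_dvd (MulAut.conj : S →* MulAut S)

/-- **Claim (A).** -/
theorem few_bad {X : Type u} [Group X] [Finite X] (hR : NoSol X) {κ : ℕ} (hκ : κ ≤ 3) {E : Finset ℕ}
    (hE : ∀ r ∈ E, r.Prime) (hP : Pr 3 κ X E) {S : Subgroup X} (hS : IsComponent S)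
    (hout : Group.IsSolvable (Out S)) {b : ℕ} (hbE : b ∈ E) (hbS : b ∣ Nat.card S) :
    E.card ≤ (E.filter (· ∣ Nat.card S)).card + 11 := by
  classical
  set φ := S.normalizerMonoidHom with hφ
  set ψ := (QuotientGroup.mk' (Inn S)).comp φ with hψ
  -- the primes dividing neither
  set W := E.filter fun r => ¬ r ∣ Nat.card S ∧ ¬ r ∣ Nat.card φ.range with hW
  have hWc : W.card ≤ 2 := by
    by_contra hcon
    obtain ⟨T₀, hT₀, hT₀c⟩ := Finset.exists_subset_card_eq (show 3 ≤ W.card by omega)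
    obtain ⟨T, hT, hTc, hTI⟩ := hP.2 T₀ (hT₀.trans (Finset.filter_subset _ _)) hT₀c
    have hTW : T ⊆ W := hT.trans hT₀
    have hTE : T ⊆ E := hTW.trans (Finset.filter_subset _ _)
    have h1 := ind_insert (fam_components hR) (𝓐 := {C : Subgroup X | IsComponent C}) hS (center_eq_bot hR hS)
      (fun r hr => hE r (hTE hr)) hTI (fun r hr => (Finset.mem_filter.1 (hTW hr)).2.1)
      (fun r hr => (Finset.mem_filter.1 (hTW hr)).2.2) (hE b hbE) hbS
    have h2 := hP.1 _ (Finset.insert_subset hbE hTE) h1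
    rw [Finset.card_insert_of_notMem (fun hb => (Finset.mem_filter.1 (hTW hb)).2.1 hbS)] at h2
    omega
  -- the primes of the outer part
  set Z := E.filter fun r => r ∣ Nat.card ψ.range with hZ
  have hZc : Z.card ≤ 9 := by
    have hsol : Group.IsSolvable ψ.range := Group.isSolvable_of_isSolvable_injective ψ.range.subtype_injective
    obtain ⟨H, hHs, hH⟩ := exists_solvable_lift ψ.rangeRestrict (MonoidHom.rangeRestrict_surjective _) hsol
    have h1 : Nat.card ψ.range ∣ Nat.card H := by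
      have h2 := Subgroup.card_map_dvd H ψ.rangeRestrict
      rwa [hH, Subgroup.card_top] at h2
    have h2 := Cfsg.Agent.H352.Zhang.zhang hHs hE (k := κ) (fun T hT hI =>
      hP.1 T hT ((hI.of_injective H.subtype H.subtype_injective).of_injective (normalizer (S : Set X)).subtype
        (normalizer (S : Set X)).subtype_injective))
    have h3 : Z ⊆ E.filter (· ∣ Nat.card H) := by
      intro r hr
      have h4 := Finset.mem_filter.1 hr
      exact Finset.mem_filter.2 ⟨h4.1, h4.2.trans h1⟩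
    have h4 := Finset.card_le_card h3
    have h5 : κ * (κ + 3) ≤ 3 * (3 + 3) := Nat.mul_le_mul hκ (by omega)
    omega
  have hsub : E ⊆ E.filter (· ∣ Nat.card S) ∪ W ∪ Z := by
    intro r hr
    simp only [Finset.mem_union]
    by_cases h1 : r ∣ Nat.card S
    · exact Or.inl (Or.inl (Finset.mem_filter.2 ⟨hr, h1⟩))
    · by_cases h2 : r ∣ Nat.card φ.range
      · refine Or.inr (Finset.mem_filter.2 ⟨hr, ?_⟩)
        rcases (hE r hr).dvd_mul.1 (h2.trans (card_range_dvd S)) with h3 | h3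
        · exact h3
        · exact absurd h3 h1
      · exact Or.inl (Or.inr (Finset.mem_filter.2 ⟨hr, h1, h2⟩))
  have h1 := Finset.card_le_card hsub
  have h2 := Finset.card_union_le (E.filter (· ∣ Nat.card S) ∪ W) Z
  have h3 := Finset.card_union_le (E.filter (· ∣ Nat.card S)) W
  omega

/-- at most `κ` components have a prime of `E` -/
theorem ncard_le {X : Type u} [Group X] [Finite X] (hR : NoSol X) (hSch : Schr.{u}) {κ : ℕ} (hκ : κ ≤ 3) {E : Finset ℕ}
    (hE : ∀ r ∈ E, r.Prime) (hP : Pr 3 κ X E) (h15 : 15 ≤ E.card) :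
    {C : Subgroup X | IsComponent C ∧ ∃ r ∈ E, r ∣ Nat.card C}.ncard ≤ κ := by
  classical
  have hF := fam_components hR
  obtain ⟨B, hBE, hBI, hBm⟩ := exists_matching (X := X) (𝓐 := {C : Subgroup X | IsComponent C}) hF.comm hE
  have hBκ := hP.1 B hBE hBI
  refine le_trans (Set.ncard_le_ncard ?_ (Set.toFinite _)) (hBm.trans hBκ)
  rintro C ⟨hC, b, hbE, hbC⟩
  refine ⟨hC, ?_⟩
  have : IsSimpleGroup C := isSimple hR hC
  have h1 := few_bad hR hκ hE hP hC (hSch C) hbE hbC
  by_contra hno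
  push Not at hno
  have h2 : E.filter (· ∣ Nat.card C) ⊆ B := by
    intro r hr
    by_contra hrB
    exact hno r (Finset.mem_sdiff.2 ⟨(Finset.mem_filter.1 hr).1, hrB⟩) (Finset.mem_filter.1 hr).2
  have h3 := Finset.card_le_card h2
  omega

/-- **The components having a prime of `E`.** -/
theorem comp_PL {F : Type v} [Field F] {l : ℕ} (hl : l = 6 ∨ l = 7 ∨ l = 8)
    (hcov : Cfsg.Agent.H826.DP.Cov3.{u, v} F l) (hSch : Schr.{u}) {X : Type u} [Group X] [Finite X] (hR : NoSol X) {κ : ℕ}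
    (hκ : κ ≤ 3) {E : Finset ℕ} (hE : Big (2 ^ l) E) (hEc : 2 ^ (l - 1) ≤ E.card + 9) (hP : Pr 3 κ X E)
    (h2 : ¬ ∃ g : X, orderOf g = 2 ^ (l + 1)) (hB : Bnd (2 ^ l) X) (hD : ∀ r ∈ E, ¬ DD X r)
    {S : Subgroup X} (hS : IsComponent S) {b : ℕ} (hbE : b ∈ E) (hbS : b ∣ Nat.card S) :
    (∃ m, 2 ≤ m ∧ Nonempty (S ≃* PL F m)) ∧ ∃ E' ⊆ E, E.card ≤ E'.card + 2 ∧ ∀ r ∈ E', r ∣ Nat.card S := by
  classical
  have h32 : 32 ≤ 2 ^ (l - 1) := by rcases hl with rfl | rfl | rfl <;> norm_num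
  have h64 : 2 ^ l = 2 * 2 ^ (l - 1) := by rcases hl with rfl | rfl | rfl <;> norm_num
  have hF := fam_components hR
  obtain ⟨𝓐, h𝓐⟩ : ∃ 𝓐 : Set (Subgroup X), 𝓐 = {C : Subgroup X | IsComponent C ∧ ∃ r ∈ E, r ∣ Nat.card C} := ⟨_, rfl⟩
  have hA : ∀ C ∈ 𝓐, IsComponent C := fun C hC => by
    rw [h𝓐] at hC
    exact hC.1
  have hinv : ∀ C ∈ 𝓐, ∀ h : X, cj h C ∈ 𝓐 := by
    intro C hC h
    rw [h𝓐] at hC ⊢
    refine ⟨hF.conj C hC.1 h, ?_⟩
    obtain ⟨r, hr, hrC⟩ := hC.2
    refine ⟨r, hr, ?_⟩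
    unfold cj
    rwa [Subgroup.card_map_of_injective (MulAut.conj h).injective]
  have hAκ : 𝓐.ncard ≤ κ := by
    rw [h𝓐]
    exact ncard_le hR hSch hκ hE.prime hP (by omega)
  have hSA : S ∈ 𝓐 := by
    rw [h𝓐]
    exact ⟨hS, b, hbE, hbS⟩
  have : IsSimpleGroup S := isSimple hR hS
  have h1 := few_bad hR hκ hE.prime hP hS (hSch S) hbE hbS
  have hPP := pr_prod hR hA hinv hE.prime (fun r hr => by have := hE.lt hr; omega) hD hSA hP
  obtain ⟨c, hc1, hcκ, E', hE'E, hE'c, hE'S, hPS⟩ := prod3 hE.prime hκ hPP (by omega) (Finset.filter_subset _ _)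
    (fun r hr => (Finset.mem_filter.1 hr).2) (show 4 ≤ (E.filter (· ∣ Nat.card S)).card by omega)
  refine ⟨?_, E', hE'E, by omega, hE'S⟩
  rcases hcov S (isSimple hR hS) (not_comm hS) (hB.of_dvd (card_subgroup_dvd_card S)) (fun h => h2 (exists_sub h)) E' c
    (fun r hr => ⟨(hE.1 r (hE'E hr)).1, hE'S r hr, (hE.1 r (hE'E hr)).2⟩) (hE.2.mono (by exact_mod_cast hE'E)) (by omega) hPS with
    h | h
  · exact h
  · exfalso
    omega

/-- a group `PSL_m(2)` having a prime of `E` has elements of order `2 ^ l` -/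
theorem exists_two_pow_of_PL {F : Type v} [Field F] [Fintype F] (hF : Fintype.card F = 2) {l : ℕ} (hl : 1 ≤ l) {S : Type u}
    [Group S] {m : ℕ} (e : S ≃* PL F m) {E : Finset ℕ} (hE : Big (2 ^ l) E) {r : ℕ} (hr : r ∈ E)
    (hrS : r ∣ Nat.card S) : ∃ g : S, orderOf g = 2 ^ l := by
  have hr1 := hE.1 r hr
  have h2 : r ≠ 2 := ne_two_of_big Nat.one_le_two_pow hE hr
  rw [Nat.card_congr e.toEquiv, dvd_card hF hr1.1 h2] at hrS
  have h3 : 2 ^ l = 2 * 2 ^ (l - 1) := by rw [← pow_succ', Nat.sub_add_cancel hl]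
  obtain ⟨g, hg⟩ := Cfsg.Agent.H421.DPTwo.exists_two_pow hF hl (m := m) (by omega)
  exact ⟨e.symm g, by rw [MulEquiv.orderOf_eq, hg]⟩

end Cfsg.Agent.H797.Cov
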