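import Cfsg.Agent.H370.DP.Comp

/-!
# Adding a prime of a component (helper797, for S3451)

`ind_insert` : `S` a member of a family of commuting subgroups permuted by `X`, `T` a set of primes dividing the order
of one element and not dividing `|N_X(S) : C_X(S)|` and `|S|`, `b` a prime divisor of `|S|`: some element has order
divisible by `b` and by all members of `T` (claim (A) of helper406).
-/

set_option autoImplicit false

namespace Cfsg.Agent.H797.Cov

open Subgroup Cfsg Cfsg.Agent.H369.Socle Cfsg.Agent.H370.DP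

variable {X : Type*} [Group X]

theorem exists_exact [Finite X] {T : Finset ℕ} (hT : ∀ r ∈ T, r.Prime) (h : Ind X T) :
    ∃ g : X, orderOf g = ∏ r ∈ T, r := by
  obtain ⟨g, hg⟩ := h
  have h1 : ∏ r ∈ T, r ∣ orderOf g := Finset.prod_primes_dvd _ (fun r hr => (hT r hr).prime) hg
  exact ⟨_, orderOf_pow_orderOf_div (orderOf_pos g).ne' h1⟩

theorem dvd_of_dvd_prod {T : Finset ℕ} (hT : ∀ r ∈ T, r.Prime) {p : ℕ} (hp : p.Prime) (h : p ∣ ∏ r ∈ T, r) : p ∈ T := by
  obtain ⟨r, hr, h1⟩ := (hp.prime.dvd_finsetProd_iff _).1 h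
  rw [Nat.prime_dvd_prime_iff_eq hp (hT r hr)] at h1
  rwa [h1]

/-- an element of order `∏ T` whose image in a group of order prime to `T` is trivial -/
theorem eq_one_of_coprime {Y : Type*} [Group Y] {T : Finset ℕ} (hT : ∀ r ∈ T, r.Prime) {y : Y}
    (hy : y ^ (∏ r ∈ T, r) = 1) {n : ℕ} (hn : y ^ n = 1) (hTn : ∀ r ∈ T, ¬ r ∣ n) : y = 1 := by
  rw [← orderOf_eq_one_iff]
  by_contra h1
  obtain ⟨p, hp, hpd⟩ := Nat.exists_prime_and_dvd h1
  have h2 := dvd_of_dvd_prod hT hp (hpd.trans (orderOf_dvd_of_pow_eq_one hy))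
  exact hTn p h2 (hpd.trans (orderOf_dvd_of_pow_eq_one hn))

theorem ind_insert [Finite X] {𝓐 : Set (Subgroup X)} (Fm : Fam 𝓐) {S : Subgroup X} (hS : S ∈ 𝓐) (hc : center S = ⊥)
    {T : Finset ℕ} (hT : ∀ r ∈ T, r.Prime) (hI : Ind X T) (hTS : ∀ r ∈ T, ¬ r ∣ Nat.card S)
    (hTN : ∀ r ∈ T, ¬ r ∣ Nat.card (S.normalizerMonoidHom).range) {b : ℕ} (hb : b.Prime) (hbS : b ∣ Nat.card S) :
    Ind X (insert b T) := by
  classical
  obtain ⟨g, hg⟩ := exists_exact hT hI
  have hn : 0 < orderOf g := orderOf_pos g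
  have hret : ∃ m : ℕ, 1 ≤ m ∧ cj (g ^ m) S = S := ⟨orderOf g, hn, by rw [pow_orderOf_eq_one, cj_one]⟩
  obtain ⟨N, ⟨hN, hNS'⟩, hmin⟩ : ∃ m : ℕ, (1 ≤ m ∧ cj (g ^ m) S = S) ∧ ∀ i, 0 < i → i < m → cj (g ^ i) S ≠ S :=
    ⟨Nat.find hret, Nat.find_spec hret, fun i h1 h2 h3 => Nat.find_min hret h2 ⟨h1, h3⟩⟩
  have hNS : g ^ N ∈ normalizer (S : Set X) := by
    rw [mem_normalizer_iff]
    intro x
    constructor
    · intro hx
      have h1 := conj_mem_cj (h := g ^ N) hx
      rwa [hNS'] at h1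
    · intro hx
      have h1 : g ^ N * x * (g ^ N)⁻¹ ∈ cj (g ^ N) S := by rw [hNS']; exact hx
      rw [mem_cj] at h1
      simpa [mul_assoc] using h1
  -- `g ^ N` centralises `S`
  have hcen : S.normalizerMonoidHom ⟨g ^ N, hNS⟩ = 1 := by
    refine eq_one_of_coprime hT (n := Nat.card (S.normalizerMonoidHom).range) ?_ ?_ hTN
    · rw [← map_pow]
      have h1 : (⟨g ^ N, hNS⟩ : normalizer (S : Set X)) ^ (∏ r ∈ T, r) = 1 := by
        apply Subtype.ext
        change (g ^ N) ^ (∏ r ∈ T, r) = 1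
        rw [← hg, ← pow_mul, mul_comm, pow_mul, pow_orderOf_eq_one, one_pow]
      rw [h1, map_one]
    · have h1 : (⟨_, ⟨g ^ N, hNS⟩, rfl⟩ : (S.normalizerMonoidHom).range) ^ Nat.card (S.normalizerMonoidHom).range = 1 :=
        pow_card_eq_one'
      exact congrArg Subtype.val h1
  -- the element of order `b`
  have := Fact.mk hb
  obtain ⟨u, hu⟩ := exists_prime_orderOf_dvd_card' b hbS
  set k : X := (u : X) * g with hk
  have hcju : ∀ D ∈ 𝓐, cj (u : X) D = D := by
    intro D hD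
    by_cases hSD : S = D
    · subst hSD
      ext x
      rw [mem_cj]
      constructor
      · intro hx
        have h1 := mul_mem (mul_mem u.2 hx) (inv_mem u.2)
        have e : (u : X) * ((u : X)⁻¹ * x * u) * (u : X)⁻¹ = x := by group
        rwa [e] at h1
      · intro hx
        exact mul_mem (mul_mem (inv_mem u.2) hx) u.2
    · ext x
      rw [mem_cj]
      constructor
      · intro hx
        have h1 := Fm.comm S hS D hD hSD _ u.2 _ hx
        have e : x = (u : X)⁻¹ * x * u := by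
          have h2 : (u : X) * ((u : X)⁻¹ * x * u) = x * u := by group
          rw [h2] at h1
          exact (mul_right_cancel h1)
        rw [e]
        exact hx
      · intro hx
        have h1 := Fm.comm S hS D hD hSD _ u.2 _ hx
        have e : (u : X)⁻¹ * x * u = x := by
          rw [mul_assoc, ← h1]
          group
        rw [e]
        exact hx
  have hcj : ∀ i : ℕ, cj (k ^ i) S = cj (g ^ i) S := by
    intro i
    induction i with
    | zero => rw [pow_zero, pow_zero]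
    | succ i ih =>
      rw [pow_succ', cj_mul, ih, hk, cj_mul, ← cj_mul g, ← pow_succ', hcju _ (Fm.conj S hS _)]
  have hcjNt : ∀ t : ℕ, cj (g ^ (N * t)) S = S := by
    intro t
    induction t with
    | zero => rw [mul_zero, pow_zero, cj_one]
    | succ t ih => rw [Nat.mul_succ, pow_add, cj_mul, hNS', ih]
  -- `N ∣ orderOf k`
  have hNd : N ∣ orderOf k := by
    have h1 : cj (g ^ orderOf k) S = S := by rw [← hcj, pow_orderOf_eq_one, cj_one]
    have h2 : g ^ orderOf k = g ^ (orderOf k % N) * g ^ (N * (orderOf k / N)) := by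
      rw [← pow_add, Nat.mod_add_div]
    rw [h2, cj_mul, hcjNt] at h1
    by_contra hcon
    exact hmin _ (Nat.pos_of_ne_zero fun h0 => hcon (Nat.dvd_of_mod_eq_zero h0)) (Nat.mod_lt _ hN) h1
  -- the action of `k ^ N`
  have hgN : ∀ x : S, g ^ N * (x : X) * (g ^ N)⁻¹ = x := fun x => by
    have h1 := congrArg (fun α : MulAut S => ((α x : S) : X)) hcen
    exact h1
  have hkC : ∀ x : S, k ^ N * (x : X) * (k ^ N)⁻¹ = ((MulAut.conj u) x : S) := by
    intro x
    obtain ⟨m', hm'⟩ : ∃ m', N = m' + 1 := ⟨N - 1, by omega⟩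
    have h1 := Fm.pow_conj (m := N) (h := g) hS hS u.2 (fun i h1 h2 => hmin i h1 h2) x.2 m' (by omega)
    rw [MulAut.conj_apply, Subgroup.coe_mul, Subgroup.coe_mul, Subgroup.coe_inv]
    rw [← hk] at h1
    have e1 : k ^ N = k * k ^ m' := by rw [hm', pow_succ']
    have e2 : g ^ N = g * g ^ m' := by rw [hm', pow_succ']
    rw [e1]
    calc k * k ^ m' * (x : X) * (k * k ^ m')⁻¹ = k * (k ^ m' * x * (k ^ m')⁻¹) * k⁻¹ := by group
      _ = k * (g ^ m' * x * (g ^ m')⁻¹) * k⁻¹ := by rw [h1]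
      _ = u * (g * g ^ m' * x * (g * g ^ m')⁻¹) * (u : X)⁻¹ := by
        rw [hk]
        group
      _ = _ := by rw [← e2, hgN]
  have hkj : ∀ (j : ℕ) (x : S), (k ^ N) ^ j * (x : X) * ((k ^ N) ^ j)⁻¹ = (((MulAut.conj (u ^ j)) x : S) : X) := by
    intro j
    induction j with
    | zero => intro x; simp
    | succ j ih =>
      intro x
      have e : MulAut.conj (u ^ (j + 1)) x = MulAut.conj (u ^ j) (MulAut.conj u x) := by
        rw [pow_succ, map_mul, MulAut.mul_apply]
      rw [e, ← ih, ← hkC, pow_succ (k ^ N) j]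
      group
  have hbd : b ∣ orderOf k := by
    obtain ⟨c, hc'⟩ := hNd
    rw [hc']
    refine Dvd.dvd.mul_left ?_ N
    rw [← hu]
    apply orderOf_dvd_of_pow_eq_one
    have h1 : u ^ c ∈ center S := by
      rw [mem_center_iff]
      intro x
      have h2 := hkj c x
      rw [← pow_mul, ← hc', pow_orderOf_eq_one, MulAut.conj_apply] at h2
      simp only [one_mul, inv_one, mul_one] at h2
      have h3 : (x : X) = ((u ^ c * x * (u ^ c)⁻¹ : S) : X) := h2
      have h4 : x = u ^ c * x * (u ^ c)⁻¹ := Subtype.ext h3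
      conv_lhs => rw [h4]
      rw [inv_mul_cancel_right]
    rw [hc, mem_bot] at h1
    exact h1
  -- the primes of `T`
  have hgd : orderOf g ∣ orderOf k := by
    let 𝓜 : Set (Subgroup X) := Set.range fun i : ℕ => cj (g ^ i) S
    have h𝓜 : ∀ C ∈ 𝓜, C ∈ 𝓐 := by
      rintro _ ⟨i, rfl⟩
      exact Fm.conj S hS _
    have hle : ∀ i : ℕ, cj (g ^ i) S ≤ sSup 𝓜 := fun i => le_sSup ⟨i, rfl⟩
    have hMg : ∀ m ∈ (sSup 𝓜 : Subgroup X), g * m * g⁻¹ ∈ (sSup 𝓜 : Subgroup X) := by
      intro m hm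
      have h3 : (sSup 𝓜 : Subgroup X) ≤ (sSup 𝓜 : Subgroup X).comap (MulAut.conj g).toMonoidHom := by
        refine sSup_le ?_
        rintro _ ⟨i, rfl⟩ c hc
        rw [mem_comap]
        refine hle (i + 1) ?_
        rw [pow_succ', cj_mul]
        exact conj_mem_cj hc
      exact h3 hm
    have huM : (u : X) ∈ (sSup 𝓜 : Subgroup X) := by
      refine hle 0 ?_
      rw [pow_zero, cj_one]
      exact u.2
    have hpow : ∀ j : ℕ, ∃ m ∈ (sSup 𝓜 : Subgroup X), k ^ j = m * g ^ j := by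
      intro j
      induction j with
      | zero => exact ⟨1, one_mem _, by simp⟩
      | succ j ih =>
        obtain ⟨m, hm, e⟩ := ih
        refine ⟨u * (g * m * g⁻¹), mul_mem huM (hMg m hm), ?_⟩
        rw [pow_succ', e, hk, pow_succ']
        group
    obtain ⟨m, hm, e⟩ := hpow (orderOf k)
    rw [pow_orderOf_eq_one] at e
    have hgM : g ^ orderOf k ∈ (sSup 𝓜 : Subgroup X) := by
      rw [eq_comm, mul_eq_one_iff_eq_inv] at e
      have h1 : g ^ orderOf k = m⁻¹ := by rw [e, inv_inv]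
      rw [h1]
      exact inv_mem hm
    apply orderOf_dvd_of_pow_eq_one
    refine eq_one_of_coprime hT (n := Nat.card (sSup 𝓜 : Subgroup X)) ?_ ?_ ?_
    · rw [← hg, ← pow_mul, mul_comm, pow_mul, pow_orderOf_eq_one, one_pow]
    · have h1 : (⟨_, hgM⟩ : (sSup 𝓜 : Subgroup X)) ^ Nat.card (sSup 𝓜 : Subgroup X) = 1 := pow_card_eq_one'
      exact congrArg Subtype.val h1
    · intro r hr hd
      obtain ⟨C, ⟨i, rfl⟩, hC⟩ := exists_dvd_card_of_sSup (𝓐 := 𝓜)
        (fun C hC D hD => Fm.comm C (h𝓜 C hC) D (h𝓜 D hD)) (hT r hr) hd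
      apply hTS r hr
      have h1 : Nat.card (cj (g ^ i) S) = Nat.card S := by
        unfold cj
        rw [Subgroup.card_map_of_injective (MulAut.conj (g ^ i)).injective]
      simp only at hC
      rwa [h1] at hC
  refine ⟨k, fun r hr => ?_⟩
  rcases Finset.mem_insert.1 hr with h | h
  · rw [h]
    exact hbd
  · refine Dvd.dvd.trans ?_ hgd
    rw [hg]
    exact Finset.dvd_prod_of_mem _ h

end Cfsg.Agent.H797.Cov
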